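import Groth.Agent.H4LC.LC
import Groth.Agent.H4LC.Basic
import Groth.Agent.H4Depth.ExtBasic

/-!
# `Ext^n(-, G)` on modules killed by a power of an ideal is represented by local cohomology
-/

set_option autoImplicit false
set_option linter.unusedSectionVars false

universe u

open CategoryTheory CategoryTheory.Limits Opposite CategoryTheory.Abelian

namespace Groth.Agent.H4RepExt

open Groth.Agent.H4LC

variable {R : Type u} [CommRing R] [IsNoetherianRing R] (I : Ideal R) {n : ℕ} {G : ModuleCat.{u} R}

/-- `I ^ k` kills the module. -/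
def Killed (k : ℕ) (F : ModuleCat.{u} R) : Prop := ∀ a ∈ I ^ k, ∀ x : F, a • x = 0

/-- The hypothesis: the previous `Ext` vanishes on finite modules killed by a power of the ideal. -/
def Van (n : ℕ) (G : ModuleCat.{u} R) : Prop :=
  ∀ (F : ModuleCat.{u} R) [Module.Finite R F] (k : ℕ), Killed I k F → ∀ i : ℕ, i + 1 = n →
    Subsingleton (Abelian.Ext F G i)

variable {I}

omit [IsNoetherianRing R] in
theorem killed_quotSys (k : ℕ) : Killed I k ((quotSys I).obj (op k)) := fun _ ha =>
  Module.mem_annihilator.1 (mem_annihilator_quotSys I ha)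

omit [IsNoetherianRing R] in
theorem finite_quotSys (k : ℕ) : Module.Finite R ((quotSys I).obj (op k)) :=
  inferInstanceAs (Module.Finite R (R ⧸ I ^ k))

omit [IsNoetherianRing R] in
theorem Killed.mono {k l : ℕ} (h : k ≤ l) {F : ModuleCat.{u} R} (hF : Killed I k F) : Killed I l F :=
  fun a ha => hF a (Ideal.pow_le_pow_right h ha)

omit [IsNoetherianRing R] in
/-- Precomposition is additive. -/
theorem sum_comp_mk₀ {ι : Type*} (s : Finset ι) {X Y : ModuleCat.{u} R} (f : ι → (X ⟶ Y))
    (w : Abelian.Ext Y G n) :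
    (Abelian.Ext.mk₀ (∑ i ∈ s, f i)).comp w (zero_add n) =
      ∑ i ∈ s, (Abelian.Ext.mk₀ (f i)).comp w (zero_add n) :=
  map_sum (AddMonoidHom.mk' (fun g : X ⟶ Y => (Abelian.Ext.mk₀ g).comp w (zero_add n))
    fun g g' => by simp only [Abelian.Ext.mk₀_add, Abelian.Ext.add_comp]) f s

variable (hvan : Van I n G)

include hvan in
/-- Precomposition with a surjection is injective. -/
theorem eq_zero_of_precomp {F₀ F : ModuleCat.{u} R} [Module.Finite R F₀] {k : ℕ} (hk : Killed I k F₀)
    (p : F₀ ⟶ F) (hp : Function.Surjective p.hom) {z : Abelian.Ext F G n}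
    (h : (Abelian.Ext.mk₀ p).comp z (zero_add n) = 0) : z = 0 := by
  cases n with
  | zero =>
    obtain ⟨f, rfl⟩ := (Abelian.Ext.mk₀_bijective _ _).2 z
    rw [Abelian.Ext.mk₀_comp_mk₀, ← Abelian.Ext.mk₀_zero] at h
    rw [← Abelian.Ext.mk₀_zero]
    refine congrArg _ (ModuleCat.hom_ext (LinearMap.ext fun y => ?_))
    obtain ⟨x, rfl⟩ := hp y
    exact congrArg (fun t => t.hom x) ((Abelian.Ext.mk₀_bijective _ _).1 h)
  | succ i =>
    have hS := Groth.Agent.H4Depth.shortComplexOf_shortExact (LinearMap.ker p.hom).subtype p.hom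
      Subtype.val_injective hp (LinearMap.exact_subtype_ker_map p.hom)
    obtain ⟨w, rfl⟩ := Abelian.Ext.contravariant_sequence_exact₃ hS _ z h
      (show 1 + i = i + 1 by omega)
    have hsub := hvan (ModuleCat.of R (LinearMap.ker p.hom)) k
      (fun a ha x => Subtype.ext (hk a ha x.1)) i rfl
    obtain rfl := @Subsingleton.elim _ hsub w 0
    exact Abelian.Ext.comp_zero _ _ _ _ _

include hvan in
/-- Classes are detected on cyclic modules. -/
theorem eq_zero_of_forall {F : ModuleCat.{u} R} [Module.Finite R F] {k : ℕ} (hk : Killed I k F)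
    {z : Abelian.Ext F G n}
    (h : ∀ x : F, (Abelian.Ext.mk₀ (quotHom I x (fun a ha => hk a ha x))).comp z (zero_add n) = 0) :
    z = 0 := by
  classical
  obtain ⟨m, g, hg⟩ := Module.Finite.exists_fin' R F
  let Q : Type u := (quotSys I).obj (op k)
  haveI : Module.Finite R Q := finite_quotSys k
  let q : Fin m → ((quotSys I).obj (op k) ⟶ F) := fun i =>
    quotHom I (g (Pi.single i 1)) fun a ha => hk a ha _
  let F₀ := ModuleCat.of R (Fin m → Q)
  let π : ∀ i, F₀ ⟶ (quotSys I).obj (op k) := fun i => ModuleCat.ofHom (LinearMap.proj i)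
  let p : F₀ ⟶ F := ∑ i, π i ≫ q i
  have hp : Function.Surjective p.hom := fun y => by
    obtain ⟨c, rfl⟩ := hg y
    refine ⟨fun i => c i • oneCls I k, ?_⟩
    simp only [p, ModuleCat.hom_sum, LinearMap.sum_apply]
    conv_rhs => rw [pi_eq_sum_univ c, map_sum]
    refine Finset.sum_congr rfl fun i _ => ?_
    show (q i).hom (c i • oneCls I k) = _
    rw [map_smul, quotHom_one, map_smul]
    congr 2
    funext j
    simp [Pi.single_apply, eq_comm]
  refine eq_zero_of_precomp hvan (F₀ := F₀) (k := k) (fun a ha (x : Fin m → Q) => funext fun i => killed_quotSys k a ha (x i)) p hp ?_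
  rw [sum_comp_mk₀]
  refine Finset.sum_eq_zero fun i _ => ?_
  rw [← Abelian.Ext.mk₀_comp_mk₀_assoc, h, Abelian.Ext.comp_zero]

include hvan in
/-- The transition maps are injective. -/
theorem ι_injective (k : ℕ) : Function.Injective (ι (quotSys I) n G k) := by
  refine (injective_iff_map_eq_zero _).2 fun e he => ?_
  obtain ⟨m, hm, h0⟩ := (ι_eq_zero_iff _ _ _ e).1 he
  haveI := finite_quotSys (I := I) m
  refine eq_zero_of_precomp hvan (killed_quotSys m) (tr (quotSys I) hm) (fun y => ?_) h0
  obtain ⟨r, rfl⟩ := exists_eq_smul_oneCls I y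
  exact ⟨r • oneCls I m, by rw [map_smul, tr_one]⟩

include hvan in
/-- An element killed by `I ^ k` comes from level `k`. -/
theorem exists_level {k : ℕ} (z : (extColim (quotSys I) n).obj G) (hz : ∀ a ∈ I ^ k, a • z = 0) :
    ∃ e, ι (quotSys I) n G k e = z := by
  obtain ⟨l, hl, e, rfl⟩ := exists_rep_ge (quotSys I) n G z k
  let f := tr (quotSys I) hl
  have hf : Function.Surjective f.hom := fun y => by
    obtain ⟨r, rfl⟩ := exists_eq_smul_oneCls I y
    exact ⟨r • oneCls I l, by rw [map_smul, tr_one]⟩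
  haveI := finite_quotSys (I := I) l
  let K := ModuleCat.of R (LinearMap.ker f.hom)
  have hK : Killed I l K := fun a ha x => Subtype.ext (killed_quotSys l a ha x.1)
  have hS := Groth.Agent.H4Depth.shortComplexOf_shortExact (LinearMap.ker f.hom).subtype f.hom
    Subtype.val_injective hf (LinearMap.exact_subtype_ker_map f.hom)
  have h0 : (Abelian.Ext.mk₀ (ModuleCat.ofHom (LinearMap.ker f.hom).subtype)).comp e (zero_add n) = 0 := by
    refine eq_zero_of_forall hvan (F := K) hK fun c => ?_
    obtain ⟨a, ha⟩ := exists_eq_smul_oneCls I c.1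
    have hak : a ∈ I ^ k := by
      have h1 : f.hom (a • oneCls I l) = 0 := ha ▸ c.2
      rw [map_smul, tr_one] at h1
      change a • (Submodule.Quotient.mk 1 : R ⧸ I ^ k) = 0 at h1
      rw [← Submodule.Quotient.mk_smul, smul_eq_mul, mul_one] at h1
      exact (Submodule.Quotient.mk_eq_zero _).1 h1
    rw [Abelian.Ext.mk₀_comp_mk₀_assoc,
      show quotHom I c (fun b hb => hK b hb c) ≫ ModuleCat.ofHom (LinearMap.ker f.hom).subtype =
        a • 𝟙 ((quotSys I).obj (op l)) from quot_hom_ext I (by
          rw [ModuleCat.hom_comp, LinearMap.comp_apply, quotHom_one]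
          exact ha),
      Abelian.Ext.mk₀_smul, Abelian.Ext.smul_comp, Abelian.Ext.mk₀_id_comp]
    refine ι_injective hvan l ?_
    rw [map_smul, hz a hak, map_zero]
  obtain ⟨e', he'⟩ := Abelian.Ext.contravariant_sequence_exact₂ hS _ e h0
  exact ⟨e', by rw [← he']; exact (ι_tr (quotSys I) n G hl e').symm⟩

/-- The comparison map. -/
noncomputable def θ {F : ModuleCat.{u} R} {k : ℕ} (hk : Killed I k F) :
    Abelian.Ext F G n →ₗ[R] (F →ₗ[R] (extColim (quotSys I) n).obj G) where
  toFun z :=
    { toFun := fun x => ι (quotSys I) n G k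
        ((Abelian.Ext.mk₀ (quotHom I x (fun a ha => hk a ha x))).comp z (zero_add n))
      map_add' := fun x y => by
        rw [show quotHom I (x + y) (fun a ha => hk a ha (x + y)) =
          quotHom I x (fun a ha => hk a ha x) + quotHom I y (fun a ha => hk a ha y) from
            quot_hom_ext I (by rw [ModuleCat.hom_add, LinearMap.add_apply]; simp only [quotHom_one]),
          Abelian.Ext.mk₀_add, Abelian.Ext.add_comp, map_add]
      map_smul' := fun r x => by
        rw [show quotHom I (r • x) (fun a ha => hk a ha (r • x)) =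
          r • quotHom I x (fun a ha => hk a ha x) from
            quot_hom_ext I (by rw [ModuleCat.hom_smul, LinearMap.smul_apply]; simp only [quotHom_one]),
          Abelian.Ext.mk₀_smul, Abelian.Ext.smul_comp, map_smul]
        rfl }
  map_add' z w := LinearMap.ext fun x => by
    show ι (quotSys I) n G k _ = ι (quotSys I) n G k _ + ι (quotSys I) n G k _
    rw [Abelian.Ext.comp_add, map_add]
  map_smul' r z := LinearMap.ext fun x => by
    show ι (quotSys I) n G k _ = r • ι (quotSys I) n G k _
    rw [Abelian.Ext.comp_smul, map_smul]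

include hvan in
theorem bijective_θ {F : ModuleCat.{u} R} [Module.Finite R F] {k : ℕ} (hk : Killed I k F) :
    Function.Bijective (θ (n := n) (G := G) hk) := by
  classical
  refine ⟨(injective_iff_map_eq_zero _).2 fun z hz =>
    eq_zero_of_forall hvan hk fun x => ι_injective hvan k ((LinearMap.congr_fun hz x).trans (map_zero _).symm), fun φ => ?_⟩
  obtain ⟨m, g, hg⟩ := Module.Finite.exists_fin' R F
  let Q : Type u := (quotSys I).obj (op k)
  haveI : Module.Finite R Q := finite_quotSys k
  let x : Fin m → F := fun i => g (Pi.single i 1)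
  have hφ : ∀ i, ∃ e, ι (quotSys I) n G k e = φ (x i) := fun i =>
    exists_level hvan _ fun a ha => by rw [← map_smul, hk a ha, map_zero]
  choose e he using hφ
  let F₀ := ModuleCat.of R (Fin m → Q)
  let π : ∀ i, F₀ ⟶ (quotSys I).obj (op k) := fun i => ModuleCat.ofHom (LinearMap.proj i)
  let q : Fin m → ((quotSys I).obj (op k) ⟶ F) := fun i => quotHom I (x i) fun a ha => hk a ha _
  let p : F₀ ⟶ F := ∑ i, π i ≫ q i
  let inc : ∀ i, (quotSys I).obj (op k) ⟶ F₀ := fun i =>
    ModuleCat.ofHom (LinearMap.single R (fun _ : Fin m => Q) i)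
  have hinc : ∀ i j, inc i ≫ π j = if i = j then 𝟙 _ else 0 := fun i j => by
    apply ModuleCat.hom_ext
    refine LinearMap.ext fun y => ?_
    show (Pi.single i y : Fin m → Q) j = _
    split
    · subst_vars; simp
    · next h => rw [Pi.single_eq_of_ne (Ne.symm h)]; rfl
  have hincp : ∀ i, inc i ≫ p = q i := fun i => by
    rw [Preadditive.comp_sum, Finset.sum_eq_single i]
    · rw [← Category.assoc, hinc, if_pos rfl, Category.id_comp]
    · intro j _ hj
      rw [← Category.assoc, hinc, if_neg (Ne.symm hj), zero_comp]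
    · simp
  have hspan : Submodule.span R (Set.range x) = ⊤ := by
    refine top_le_iff.1 fun y _ => ?_
    obtain ⟨c, rfl⟩ := hg y
    rw [pi_eq_sum_univ c, map_sum]
    refine Submodule.sum_mem _ fun i _ => ?_
    rw [map_smul]
    refine Submodule.smul_mem _ _ (Submodule.subset_span ⟨i, congrArg g ?_⟩)
    funext j
    simp [Pi.single_apply, eq_comm]
  have hp : Function.Surjective p.hom := by
    rw [← LinearMap.range_eq_top, eq_top_iff, ← hspan, Submodule.span_le]
    rintro _ ⟨i, rfl⟩
    exact ⟨(inc i).hom (oneCls I k),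
      (congrArg (fun t => t.hom (oneCls I k)) (hincp i)).trans (quotHom_one I _ _)⟩
  let w : Abelian.Ext F₀ G n := ∑ i, (Abelian.Ext.mk₀ (π i)).comp (e i) (zero_add n)
  have hS := Groth.Agent.H4Depth.shortComplexOf_shortExact (LinearMap.ker p.hom).subtype p.hom
    Subtype.val_injective hp (LinearMap.exact_subtype_ker_map p.hom)
  let K := ModuleCat.of R (LinearMap.ker p.hom)
  have hK : Killed I k K := fun a ha c => Subtype.ext (funext fun i => killed_quotSys k a ha (c.1 i))
  have h0 : (Abelian.Ext.mk₀ (ModuleCat.ofHom (LinearMap.ker p.hom).subtype)).comp w (zero_add n) = 0 := by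
    refine eq_zero_of_forall hvan (F := K) hK fun c => ι_injective hvan k ?_
    choose r hr using fun i => exists_eq_smul_oneCls I (c.1 i)
    have hsum : ∑ i, r i • x i = 0 := by
      rw [← show p.hom c.1 = 0 from c.2]
      simp only [p, ModuleCat.hom_sum, LinearMap.sum_apply]
      refine Finset.sum_congr rfl fun i _ => ?_
      show r i • x i = (q i).hom (c.1 i)
      rw [hr i, map_smul, quotHom_one]
    rw [map_zero, Abelian.Ext.mk₀_comp_mk₀_assoc, Abelian.Ext.comp_sum, map_sum]
    refine Eq.trans (Finset.sum_congr rfl fun i _ => ?_)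
      ((map_sum φ (fun i => r i • x i) Finset.univ).symm.trans ((congrArg φ hsum).trans (map_zero φ)))
    rw [Abelian.Ext.mk₀_comp_mk₀_assoc,
      show (quotHom I c (fun a ha => hK a ha c) ≫ ModuleCat.ofHom (LinearMap.ker p.hom).subtype) ≫ π i =
        r i • 𝟙 ((quotSys I).obj (op k)) from quot_hom_ext I (by
          rw [ModuleCat.hom_comp, LinearMap.comp_apply, ModuleCat.hom_comp, LinearMap.comp_apply, quotHom_one]
          exact hr i),
      Abelian.Ext.mk₀_smul, Abelian.Ext.smul_comp, Abelian.Ext.mk₀_id_comp, map_smul, he, map_smul]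
  obtain ⟨z, hz⟩ : ∃ z : Abelian.Ext F G n, (Abelian.Ext.mk₀ p).comp z (zero_add n) = w :=
    Abelian.Ext.contravariant_sequence_exact₂ hS _ w h0
  refine ⟨z, LinearMap.ext_on_range hspan fun i => ?_⟩
  show ι (quotSys I) n G k ((Abelian.Ext.mk₀ (q i)).comp z (zero_add n)) = φ (x i)
  rw [← hincp, ← Abelian.Ext.mk₀_comp_mk₀_assoc, ← he i]
  refine congrArg _ ?_
  refine (congrArg (fun t => (Abelian.Ext.mk₀ (inc i)).comp t (zero_add n)) hz).trans ?_
  rw [Abelian.Ext.comp_sum, Finset.sum_eq_single i]
  · rw [Abelian.Ext.mk₀_comp_mk₀_assoc, hinc, if_pos rfl, Abelian.Ext.mk₀_id_comp]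
  · intro j _ hj
    rw [Abelian.Ext.mk₀_comp_mk₀_assoc, hinc, if_neg (Ne.symm hj), Abelian.Ext.mk₀_zero,
      Abelian.Ext.zero_comp]
  · simp

end Groth.Agent.H4RepExt
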